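import Mathlib.LinearAlgebra.Matrix.GeneralLinearGroup.Defs
import Mathlib.GroupTheory.OrderOfElement

/-!
# Certificates for matrix groups regular on the non-zero vectors of a plane

A finite list of words in the generators whose values are closed under left multiplication by the
generators and whose first columns enumerate the non-zero vectors once.
-/

set_option autoImplicit false

namespace Cfsg.Agent.SharplyCert

open Matrix

variable {R : Type*} [CommRing R]

/-- A 2×2 matrix as a tuple, for kernel computations. -/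
abbrev Tup (R : Type*) := R × R × R × R

def tmul (x y : Tup R) : Tup R :=
  (x.1 * y.1 + x.2.1 * y.2.2.1, x.1 * y.2.1 + x.2.1 * y.2.2.2,
    x.2.2.1 * y.1 + x.2.2.2 * y.2.2.1, x.2.2.1 * y.2.1 + x.2.2.2 * y.2.2.2)

def toMat (x : Tup R) : Matrix (Fin 2) (Fin 2) R := !![x.1, x.2.1; x.2.2.1, x.2.2.2]

theorem toMat_tmul (x y : Tup R) : toMat (tmul x y) = toMat x * toMat y := by
  ext i j
  fin_cases i <;> fin_cases j <;> simp [toMat, tmul, Matrix.mul_apply, Fin.sum_univ_two]

/-- The value of a word in the generators `gens`. -/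
def evalWord {n : ℕ} (gens : Fin n → Tup R) : List (Fin n) → Tup R
  | [] => (1, 0, 0, 1)
  | i :: w => tmul (gens i) (evalWord gens w)

/-- The first column. -/
def col (x : Tup R) : R × R := (x.1, x.2.2.1)

theorem regular_of_cert [Fintype R] [DecidableEq R] {n : ℕ}
    (g : Fin n → Matrix.GeneralLinearGroup (Fin 2) R) (gens : Fin n → Tup R)
    (hg : ∀ i, (g i : Matrix (Fin 2) (Fin 2) R) = toMat (gens i)) (words : List (List (Fin n)))
    (L : List (Tup R)) (hL : words.map (evalWord gens) = L) (hone : (1, 0, 0, 1) ∈ L)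
    (hclosed : ∀ i, ∀ x ∈ L, tmul (gens i) x ∈ L) (hnd : (L.map col).Nodup)
    (hcov : ∀ v : R × R, v ≠ (0, 0) → v ∈ L.map col) (hzero : ((0 : R), (0 : R)) ∉ L.map col) :
    Nat.card (Subgroup.closure (Set.range g)) = Fintype.card R ^ 2 - 1 ∧
      ∀ v w : Fin 2 → R, v ≠ 0 → w ≠ 0 → ∃! h : Subgroup.closure (Set.range g),
        Matrix.mulVec ((h : Matrix.GeneralLinearGroup (Fin 2) R) : Matrix (Fin 2) (Fin 2) R) v = w := by
  classical
  set H := Subgroup.closure (Set.range g)
  have hmemL : ∀ x ∈ L, ∃ h : H, ((h : Matrix.GeneralLinearGroup (Fin 2) R) : Matrix (Fin 2) (Fin 2) R) =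
      toMat x := by
    intro x hx
    rw [← hL] at hx
    obtain ⟨w, -, rfl⟩ := List.mem_map.1 hx
    clear hx
    induction w with
    | nil => exact ⟨1, by ext i j; fin_cases i <;> fin_cases j <;> simp [toMat, evalWord]⟩
    | cons i w ih =>
      obtain ⟨h, hh⟩ := ih
      exact ⟨⟨g i, Subgroup.subset_closure ⟨i, rfl⟩⟩ * h, by simp [evalWord, toMat_tmul, hh, hg]⟩
  -- every element of the closure is in the list
  have hinL : ∀ h : H, ∃ x ∈ L, ((h : Matrix.GeneralLinearGroup (Fin 2) R) : Matrix (Fin 2) (Fin 2) R) =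
      toMat x := by
    rintro ⟨h, hh⟩
    have hh' : h ∈ Submonoid.closure (Set.range g) := by
      rw [← Subgroup.closure_toSubmonoid_of_finite]; exact hh
    induction hh' using Submonoid.closure_induction_left with
    | one => exact ⟨_, hone, by ext i j; fin_cases i <;> fin_cases j <;> simp [toMat]⟩
    | mul_left x hx y hy ih =>
      obtain ⟨i, rfl⟩ := hx
      obtain ⟨z, hz, hze⟩ := ih (by
        rw [← Subgroup.mem_toSubmonoid, Subgroup.closure_toSubmonoid_of_finite]; exact hy)
      exact ⟨_, hclosed i z hz, by simp [toMat_tmul, hg, show (y : Matrix (Fin 2) (Fin 2) R) = toMat z from hze]⟩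
  let e : Fin 2 → R := ![1, 0]
  have hcol : ∀ x : Tup R, Matrix.mulVec (toMat x) e = ![(col x).1, (col x).2] := fun x => by
    ext i; fin_cases i <;> simp [toMat, col, e, Matrix.mulVec, dotProduct, Fin.sum_univ_two]
  have hsur : ∀ v : Fin 2 → R, v ≠ 0 → ∃ h : H,
      Matrix.mulVec ((h : Matrix.GeneralLinearGroup (Fin 2) R) : Matrix (Fin 2) (Fin 2) R) e = v := by
    intro v hv
    obtain ⟨x, hx, hxv⟩ := List.mem_map.1 (hcov (v 0, v 1) (fun h => hv (by
      ext i; fin_cases i <;> simp_all)))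
    obtain ⟨h, hh⟩ := hmemL x hx
    exact ⟨h, by rw [hh, hcol, hxv]; ext i; fin_cases i <;> simp⟩
  have hinj : ∀ h h' : H, Matrix.mulVec ((h : Matrix.GeneralLinearGroup (Fin 2) R) : Matrix (Fin 2) (Fin 2) R) e =
      Matrix.mulVec ((h' : Matrix.GeneralLinearGroup (Fin 2) R) : Matrix (Fin 2) (Fin 2) R) e → h = h' := by
    intro h h' heq
    obtain ⟨x, hx, hxe⟩ := hinL h
    obtain ⟨y, hy, hye⟩ := hinL h'
    rw [hxe, hye, hcol, hcol] at heq
    have he : col x = col y := Prod.ext (congrFun heq 0) (congrFun heq 1)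
    have := List.inj_on_of_nodup_map hnd hx hy he
    exact Subtype.ext (Units.ext (hxe.trans ((congrArg toMat this).trans hye.symm)))
  have hne : ∀ h : H,
      Matrix.mulVec ((h : Matrix.GeneralLinearGroup (Fin 2) R) : Matrix (Fin 2) (Fin 2) R) e ≠ 0 := by
    intro h h0
    obtain ⟨x, hx, hxe⟩ := hinL h
    rw [hxe, hcol] at h0
    exact hzero (List.mem_map.2 ⟨x, hx, Prod.ext (congrFun h0 0) (congrFun h0 1)⟩)
  refine ⟨?_, fun v w hv hw => ?_⟩
  · let φ : H → {v : Fin 2 → R // v ≠ 0} := fun h => ⟨_, hne h⟩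
    have hφ : Function.Bijective φ := ⟨fun h h' e' => hinj h h' (congrArg Subtype.val e'),
      fun v => (hsur v.1 v.2).imp fun h hh => Subtype.ext hh⟩
    rw [Nat.card_eq_of_bijective φ hφ, Nat.card_eq_fintype_card, Fintype.card_subtype_compl,
      Fintype.card_fun, Fintype.card_subtype_eq, Fintype.card_fin]
  · obtain ⟨a, ha⟩ := hsur v hv
    obtain ⟨b, hb⟩ := hsur w hw
    refine ⟨b * a⁻¹, ?_, fun h hh => eq_mul_inv_of_mul_eq (hinj _ _ ?_)⟩
    · show Matrix.mulVec _ v = w
      rw [← ha, Matrix.mulVec_mulVec, ← Units.val_mul, ← Subgroup.coe_mul, inv_mul_cancel_right, hb]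
    · rw [Subgroup.coe_mul, Units.val_mul, ← Matrix.mulVec_mulVec, ha, hb]
      exact hh

end Cfsg.Agent.SharplyCert
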